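import Groth.Agent.Lib.Hopf.PointLift

/-!
# Points of torsors under affine groups over an algebraically closed field

A nonzero algebra `B` with a coaction `ρ : B → H ⊗ B` of a commutative Hopf algebra `H` for which
`B ⊗ B → H ⊗ B` is bijective has a point.
-/

set_option autoImplicit false

universe u

open TensorProduct

namespace GrothLib.TorsorPt13

variable {k : Type u} [Field k] {H : Type u} [CommRing H] [HopfAlgebra k H]
  {B : Type u} [CommRing B] [Algebra k B]

/-- The inclusion `E ⊗ B → H ⊗ B`. -/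
noncomputable def inclB {A : Type u} [CommRing A] [Algebra k A] (E : Subalgebra k A) :
    ↥E ⊗[k] B →ₐ[k] A ⊗[k] B :=
  Algebra.TensorProduct.map E.val (AlgHom.id k B)

theorem inclB_injective {A : Type u} [CommRing A] [Algebra k A] (E : Subalgebra k A) :
    Function.Injective (inclB (B := B) E) := by
  have h : Function.Injective (LinearMap.rTensor B E.val.toLinearMap) :=
    Module.Flat.rTensor_preserves_injective_linearMap _ Subtype.val_injective
  intro x y hxy
  exact h hxy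

theorem inclB_mono {A : Type u} [CommRing A] [Algebra k A] {E E' : Subalgebra k A} (h : E ≤ E')
    (x : ↥E ⊗[k] B) :
    inclB E' (Algebra.TensorProduct.map (Subalgebra.inclusion h) (AlgHom.id k B) x) = inclB E x := by
  induction x using TensorProduct.induction_on with
  | zero => simp
  | tmul a b => rfl
  | add a b ha hb => simp only [map_add, ha, hb]

theorem range_inclB_mono {A : Type u} [CommRing A] [Algebra k A] {E E' : Subalgebra k A} (h : E ≤ E') :
    (inclB (B := B) E).range ≤ (inclB E').range := by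
  rintro _ ⟨x, rfl⟩
  exact ⟨_, inclB_mono h x⟩

theorem mem_of_tmul_one_mem [Nontrivial B] {A : Type u} [CommRing A] [Algebra k A] {E : Subalgebra k A} {a : A}
    (ha : a ⊗ₜ[k] (1 : B) ∈ (inclB E).range) : a ∈ E := by
  obtain ⟨x, hx⟩ := ha
  have hex : Function.Exact E.val.toLinearMap (Subalgebra.toSubmodule E).mkQ := fun y => by
    rw [Submodule.mkQ_apply, Submodule.Quotient.mk_eq_zero]
    exact ⟨fun hy => ⟨⟨y, hy⟩, rfl⟩, fun ⟨z, hz⟩ => hz ▸ z.2⟩
  have h := (rTensor_exact B hex (Submodule.mkQ_surjective _)).apply_apply_eq_zero x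
  rw [show LinearMap.rTensor B E.val.toLinearMap x = a ⊗ₜ[k] (1 : B) from hx, LinearMap.rTensor_tmul] at h
  have hinj : Function.Injective (fun m : A ⧸ Subalgebra.toSubmodule E => m ⊗ₜ[k] (1 : B)) := by
    have hl : Function.Injective (LinearMap.lTensor (A ⧸ Subalgebra.toSubmodule E) (Algebra.linearMap k B)) :=
      Module.Flat.lTensor_preserves_injective_linearMap _ (algebraMap k B).injective
    intro m n hmn
    apply (TensorProduct.rid k _).symm.injective
    apply hl
    simpa using hmn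
  exact (Submodule.Quotient.mk_eq_zero _).1 (hinj (a₁ := (Subalgebra.toSubmodule E).mkQ a) (a₂ := 0)
    (by simpa using h))

variable (ρ : B →ₐ[k] H ⊗[k] B)

/-- The functions coming from the pushforward to a quotient group. -/
noncomputable def part (E : Subalgebra k H) : Subalgebra k B := (inclB (B := B) E).range.comap ρ

theorem part_mono {E E' : Subalgebra k H} (h : E ≤ E') : part ρ E ≤ part ρ E' := fun _ hb =>
  range_inclB_mono h hb

variable (γ : B ⊗[k] B ≃ₐ[k] H ⊗[k] B) (hγ₁ : ∀ b, γ (b ⊗ₜ 1) = ρ b) (hγ₂ : ∀ c, γ (1 ⊗ₜ c) = 1 ⊗ₜ c)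
  (hco : ∀ b, Algebra.TensorProduct.map (AlgHom.id k H) ρ (ρ b) =
    Algebra.TensorProduct.assoc k k k H H B (Algebra.TensorProduct.map (Bialgebra.comulAlgHom k H) (AlgHom.id k B) (ρ b)))

include hγ₁ hγ₂ hco in
theorem map_γ_assoc (z : B ⊗[k] B) :
    Algebra.TensorProduct.map (AlgHom.id k H) γ.toAlgHom
      (Algebra.TensorProduct.assoc k k k H B B (Algebra.TensorProduct.map ρ (AlgHom.id k B) z)) =
    Algebra.TensorProduct.assoc k k k H H B
      (Algebra.TensorProduct.map (Bialgebra.comulAlgHom k H) (AlgHom.id k B) (γ z)) := by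
  let L : B ⊗[k] B →ₐ[k] H ⊗[k] (H ⊗[k] B) := (Algebra.TensorProduct.map (AlgHom.id k H) γ.toAlgHom).comp
    ((Algebra.TensorProduct.assoc k k k H B B).toAlgHom.comp (Algebra.TensorProduct.map ρ (AlgHom.id k B)))
  let R : B ⊗[k] B →ₐ[k] H ⊗[k] (H ⊗[k] B) := (Algebra.TensorProduct.assoc k k k H H B).toAlgHom.comp
    ((Algebra.TensorProduct.map (Bialgebra.comulAlgHom k H) (AlgHom.id k B)).comp γ.toAlgHom)
  suffices L = R from AlgHom.congr_fun this z
  refine Algebra.TensorProduct.ext (AlgHom.ext fun b => ?_) (AlgHom.ext fun c => ?_)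
  · change Algebra.TensorProduct.map (AlgHom.id k H) γ.toAlgHom
      (Algebra.TensorProduct.assoc k k k H B B (ρ b ⊗ₜ 1)) =
      Algebra.TensorProduct.assoc k k k H H B
        (Algebra.TensorProduct.map (Bialgebra.comulAlgHom k H) (AlgHom.id k B) (γ (b ⊗ₜ 1)))
    rw [hγ₁, ← hco]
    induction ρ b using TensorProduct.induction_on with
    | zero => simp
    | tmul h x => simp [hγ₁]
    | add x y hx hy => simp only [map_add, add_tmul, hx, hy]
  · change Algebra.TensorProduct.map (AlgHom.id k H) γ.toAlgHom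
      (Algebra.TensorProduct.assoc k k k H B B (ρ 1 ⊗ₜ c)) =
      Algebra.TensorProduct.assoc k k k H H B
        (Algebra.TensorProduct.map (Bialgebra.comulAlgHom k H) (AlgHom.id k B) (γ (1 ⊗ₜ c)))
    rw [hγ₂, map_one, Algebra.TensorProduct.one_def]
    simp [hγ₂, Algebra.TensorProduct.one_def]

theorem mem_comul {E : Subalgebra k H} (hE : SGA3.IsHopfSubalgebra k H E) (h : H) :
    h ∈ E ↔ LinearMap.rTensor H (Subalgebra.toSubmodule E).mkQ (Coalgebra.comul (R := k) h) = 0 := by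
  constructor
  · intro hh
    obtain ⟨y, hy⟩ := hE.1 h hh
    rw [← hy]
    clear hy
    induction y using TensorProduct.induction_on with
    | zero => simp
    | tmul p q => simp [(Submodule.Quotient.mk_eq_zero (Subalgebra.toSubmodule E)).2 p.2]
    | add p q hp hq => simp only [map_add, hp, hq, add_zero]
  · intro h0
    have h1 : LinearMap.lTensor (H ⧸ Subalgebra.toSubmodule E) (Coalgebra.counit (R := k) (A := H))
        (LinearMap.rTensor H (Subalgebra.toSubmodule E).mkQ (Coalgebra.comul (R := k) h)) = 0 := by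
      rw [h0, map_zero]
    rw [← LinearMap.comp_apply, LinearMap.lTensor_comp_rTensor, ← LinearMap.rTensor_comp_lTensor,
      LinearMap.comp_apply, Coalgebra.lTensor_counit_comul, LinearMap.rTensor_tmul] at h1
    exact (Submodule.Quotient.mk_eq_zero _).1 ((TensorProduct.rid k _).symm.injective (by simpa using h1))

include hγ₁ hγ₂ hco in
theorem mem_range_iff {E : Subalgebra k H} (hE : SGA3.IsHopfSubalgebra k H E) (z : B ⊗[k] B) :
    z ∈ (inclB (part ρ E)).range ↔ γ z ∈ (inclB E).range := by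
  let Q := H ⧸ Subalgebra.toSubmodule E
  let π : H →ₗ[k] Q := (Subalgebra.toSubmodule E).mkQ
  let g : B →ₗ[k] Q ⊗[k] B := LinearMap.rTensor B π ∘ₗ ρ.toLinearMap
  let d : H →ₗ[k] Q ⊗[k] H := LinearMap.rTensor H π ∘ₗ Coalgebra.comul
  have hexE : Function.Exact E.val.toLinearMap π := fun y => by
    rw [Submodule.mkQ_apply, Submodule.Quotient.mk_eq_zero]
    exact ⟨fun hy => ⟨⟨y, hy⟩, rfl⟩, fun ⟨z, hz⟩ => hz ▸ z.2⟩
  have hexB : Function.Exact (part ρ E).val.toLinearMap g := fun b => by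
    constructor
    · intro hb
      obtain ⟨w, hw⟩ := (rTensor_exact B hexE (Submodule.mkQ_surjective _) (ρ b)).1 hb
      exact ⟨⟨b, ⟨w, hw⟩⟩, rfl⟩
    · rintro ⟨⟨b, w, hw⟩, rfl⟩
      exact (rTensor_exact B hexE (Submodule.mkQ_surjective _) (ρ b)).2 ⟨w, hw⟩
  have hexH : Function.Exact E.val.toLinearMap d := fun h => by
    change LinearMap.rTensor H π (Coalgebra.comul h) = 0 ↔ _
    rw [← mem_comul hE]
    exact ⟨fun hy => ⟨⟨h, hy⟩, rfl⟩, fun ⟨z, hz⟩ => hz ▸ z.2⟩
  have h1 : z ∈ (inclB (part ρ E)).range ↔ LinearMap.rTensor B g z = 0 :=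
    (Module.Flat.rTensor_exact B hexB z).symm
  have h2 : γ z ∈ (inclB E).range ↔ LinearMap.rTensor B d (γ z) = 0 :=
    (Module.Flat.rTensor_exact B hexH (γ z)).symm
  have hg : ∀ z : B ⊗[k] B, TensorProduct.assoc k Q B B (LinearMap.rTensor B g z) = LinearMap.rTensor (B ⊗[k] B) π
      (Algebra.TensorProduct.assoc k k k H B B (Algebra.TensorProduct.map ρ (AlgHom.id k B) z)) := by
    intro z
    induction z using TensorProduct.induction_on with
    | zero => simp
    | tmul b c =>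
      simp only [LinearMap.rTensor_tmul, Algebra.TensorProduct.map_tmul, g, LinearMap.comp_apply,
        AlgHom.toLinearMap_apply, AlgHom.coe_id, id_eq]
      induction ρ b using TensorProduct.induction_on with
      | zero => simp
      | tmul h x => simp
      | add x y hx hy => simp only [map_add, add_tmul, hx, hy]
    | add x y hx hy => simp only [map_add, hx, hy]
  have hd : ∀ w : H ⊗[k] B, TensorProduct.assoc k Q H B (LinearMap.rTensor B d w) = LinearMap.rTensor (H ⊗[k] B) π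
      (Algebra.TensorProduct.assoc k k k H H B
        (Algebra.TensorProduct.map (Bialgebra.comulAlgHom k H) (AlgHom.id k B) w)) := by
    intro w
    induction w using TensorProduct.induction_on with
    | zero => simp
    | tmul b c =>
      simp only [LinearMap.rTensor_tmul, Algebra.TensorProduct.map_tmul, d, LinearMap.comp_apply,
        AlgHom.coe_id, id_eq, Bialgebra.comulAlgHom_apply]
      induction Coalgebra.comul (R := k) b using TensorProduct.induction_on with
      | zero => simp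
      | tmul h x => simp
      | add x y hx hy => simp only [map_add, add_tmul, hx, hy]
    | add x y hx hy => simp only [map_add, hx, hy]
  have hcomm : ∀ y : H ⊗[k] (B ⊗[k] B), LinearMap.lTensor Q γ.toLinearMap (LinearMap.rTensor (B ⊗[k] B) π y) =
      LinearMap.rTensor (H ⊗[k] B) π (Algebra.TensorProduct.map (AlgHom.id k H) γ.toAlgHom y) := fun y => by
    induction y using TensorProduct.induction_on with
    | zero => simp
    | tmul b c => simp
    | add x y hx hy => simp only [map_add, hx, hy]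
  have hinj : Function.Injective (LinearMap.lTensor Q γ.toLinearMap) :=
    Module.Flat.lTensor_preserves_injective_linearMap _ γ.injective
  rw [h1, h2, ← (TensorProduct.assoc k Q B B).map_eq_zero_iff, hg, ← (TensorProduct.assoc k Q H B).map_eq_zero_iff,
    hd, ← map_γ_assoc ρ γ hγ₁ hγ₂ hco, ← hcomm]
  exact ⟨fun h => by rw [h, map_zero], fun h => hinj (by rw [h, map_zero])⟩

/-- Homomorphisms to fields extend along Hopf subalgebras. -/
theorem exists_field_extension {E E' : Subalgebra k H} (hE : SGA3.IsHopfSubalgebra k H E)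
    (hE' : SGA3.IsHopfSubalgebra k H E') (hle : E ≤ E') (F : Type u) [Field F] [Algebra k F]
    (f : ↥E ⊗[k] B →ₐ[k] F) :
    ∃ (F' : Type u) (_ : Field F') (_ : Algebra k F') (j : F →ₐ[k] F') (f' : ↥E' ⊗[k] B →ₐ[k] F'),
      f'.comp (Algebra.TensorProduct.map (Subalgebra.inclusion hle) (AlgHom.id k B)) = j.comp f := by
  letI := Hopf.Sub.hopfAlgebra hE
  letI := Hopf.Sub.hopfAlgebra hE'
  let ι := Subalgebra.inclusion hle
  have hcomul : (Algebra.TensorProduct.map ι ι).comp (Bialgebra.comulAlgHom k ↥E) =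
      (Bialgebra.comulAlgHom k ↥E').comp ι := by
    refine AlgHom.ext fun x => Hopf.Sub.incl₂_injective (B := E') ?_
    change Hopf.Sub.incl₂ E' (Algebra.TensorProduct.map ι ι (Hopf.Sub.comul hE x)) =
      Hopf.Sub.incl₂ E' (Hopf.Sub.comul hE' (ι x))
    rw [Hopf.Sub.incl₂_comul hE']
    change _ = Coalgebra.comul (R := k) (x : H)
    rw [← Hopf.Sub.incl₂_comul hE x]
    induction Hopf.Sub.comul hE x using TensorProduct.induction_on with
    | zero => simp
    | tmul p q => rfl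
    | add p q hp hq => simp only [map_add, hp, hq]
  let φ : ↥E →ₐc[k] ↥E' := BialgHom.ofAlgHom ι rfl hcomul
  letI := ι.toRingHom.toAlgebra
  haveI : IsScalarTower k ↥E ↥E' := IsScalarTower.of_algebraMap_eq fun x => (ι.commutes x).symm
  haveI : Module.FaithfullyFlat ↥E ↥E' :=
    Hopf.faithfullyFlat φ (fun _ => rfl) (Subalgebra.inclusion_injective hle)
  let e : ↥E →ₐ[k] F := f.comp Algebra.TensorProduct.includeLeft
  letI := e.toRingHom.toAlgebra
  haveI : IsScalarTower k ↥E F := IsScalarTower.of_algebraMap_eq fun x => (e.commutes x).symm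
  haveI : Nontrivial (F ⊗[↥E] ↥E') := Module.FaithfullyFlat.rTensor_nontrivial ↥E ↥E' F
  obtain ⟨m, hm⟩ := Ideal.exists_maximal (F ⊗[↥E] ↥E')
  letI := Ideal.Quotient.field m
  let mk : (F ⊗[↥E] ↥E') →ₐ[k] (F ⊗[↥E] ↥E') ⧸ m := Ideal.Quotient.mkₐ k m
  let j : F →ₐ[k] (F ⊗[↥E] ↥E') ⧸ m := mk.comp (Algebra.TensorProduct.includeLeft (S := k))
  let g : ↥E' →ₐ[k] (F ⊗[↥E] ↥E') ⧸ m :=
    mk.comp ((Algebra.TensorProduct.includeRight (R := ↥E) (A := F) (B := ↥E')).restrictScalars k)
  refine ⟨_, Ideal.Quotient.field m, inferInstance, j, Algebra.TensorProduct.lift g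
    (j.comp (f.comp Algebra.TensorProduct.includeRight)) (fun _ _ => Commute.all _ _),
    Algebra.TensorProduct.ext (AlgHom.ext fun x => ?_) (AlgHom.ext fun b => ?_)⟩
  · change (Algebra.TensorProduct.lift g (j.comp (f.comp Algebra.TensorProduct.includeRight))
      (fun _ _ => Commute.all _ _)) (ι x ⊗ₜ (1 : B)) = j (e x)
    rw [Algebra.TensorProduct.lift_tmul, map_one, mul_one]
    change mk ((1 : F) ⊗ₜ[↥E] (algebraMap ↥E ↥E' x)) = mk ((algebraMap ↥E F x) ⊗ₜ[↥E] (1 : ↥E'))
    rw [Algebra.algebraMap_eq_smul_one, ← TensorProduct.smul_tmul, ← Algebra.algebraMap_eq_smul_one]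
  · change (Algebra.TensorProduct.lift g (j.comp (f.comp Algebra.TensorProduct.includeRight))
      (fun _ _ => Commute.all _ _)) (ι 1 ⊗ₜ b) = j (f (1 ⊗ₜ b))
    rw [Algebra.TensorProduct.lift_tmul, map_one, map_one, one_mul]
    rfl

theorem isHopfSubalgebra_bot : SGA3.IsHopfSubalgebra k H ⊥ := by
  refine ⟨fun b hb => ?_, fun b hb => ?_⟩
  · obtain ⟨r, rfl⟩ := Algebra.mem_bot.1 hb
    refine ⟨(algebraMap k (⊥ : Subalgebra k H) r) ⊗ₜ 1, ?_⟩
    rw [show Coalgebra.comul (R := k) (algebraMap k H r) = Bialgebra.comulAlgHom k H (algebraMap k H r) from rfl,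
      AlgHom.commutes, Algebra.TensorProduct.algebraMap_apply]
    rfl
  · obtain ⟨r, rfl⟩ := Algebra.mem_bot.1 hb
    exact Algebra.mem_bot.2 ⟨r, ((HopfAlgebra.antipodeAlgHom k H).commutes r).symm⟩

variable [Nontrivial B]

include hγ₁ hγ₂ hco in
theorem part_fg {E E' : Subalgebra k H} (hE : SGA3.IsHopfSubalgebra k H E)
    (hE' : SGA3.IsHopfSubalgebra k H E') (hle : E ≤ E') (s : Finset H) (hs : E' = E ⊔ Algebra.adjoin k (s : Set H)) :
    ∃ t : Finset B, (t : Set B) ⊆ part ρ E' ∧ part ρ E' ≤ part ρ E ⊔ Algebra.adjoin k (t : Set B) := by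
  classical
  have hpre : ∀ d ∈ s, ∃ T : Finset B, (T : Set B) ⊆ part ρ E' ∧
      γ.symm (d ⊗ₜ 1) ∈ (inclB (part ρ E ⊔ Algebra.adjoin k (T : Set B))).range := by
    intro d hd
    have hdE : d ∈ E' := hs ▸ le_sup_right (a := E) (Algebra.subset_adjoin hd)
    have hmem : γ.symm (d ⊗ₜ 1) ∈ (inclB (part ρ E')).range := by
      rw [mem_range_iff ρ γ hγ₁ hγ₂ hco hE', AlgEquiv.apply_symm_apply]
      exact ⟨⟨d, hdE⟩ ⊗ₜ 1, rfl⟩
    obtain ⟨w, hw⟩ := hmem
    obtain ⟨S, rfl⟩ := TensorProduct.exists_finset w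
    refine ⟨S.image fun i => (i.1 : B), fun b hb => ?_, ?_⟩
    · obtain ⟨i, -, rfl⟩ := Finset.mem_image.1 hb
      exact i.1.2
    · rw [← hw, map_sum]
      refine sum_mem fun i hi => ⟨⟨i.1.1, le_sup_right (a := part ρ E) (Algebra.subset_adjoin ?_)⟩ ⊗ₜ i.2, rfl⟩
      exact Finset.mem_image.2 ⟨i, hi, rfl⟩
  choose T hT hTmem using hpre
  let t : Finset B := s.attach.biUnion fun d => T d.1 d.2
  have htE : (t : Set B) ⊆ part ρ E' := fun b hb => by
    obtain ⟨d, -, hd⟩ := Finset.mem_biUnion.1 hb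
    exact hT _ _ hd
  refine ⟨t, htE, fun b hb => mem_of_tmul_one_mem (B := B) ?_⟩
  let C := part ρ E ⊔ Algebra.adjoin k (t : Set B)
  let K : Subalgebra k (H ⊗[k] B) := (inclB C).range.comap γ.symm.toAlgHom
  have hK : (inclB E').range ≤ K := by
    have hEK : ∀ x ∈ E, x ⊗ₜ[k] (1 : B) ∈ K := fun x hx => by
      refine range_inclB_mono (le_sup_left : part ρ E ≤ C) ?_
      rw [mem_range_iff ρ γ hγ₁ hγ₂ hco hE]
      change γ (γ.symm _) ∈ _
      rw [AlgEquiv.apply_symm_apply]
      exact ⟨⟨x, hx⟩ ⊗ₜ 1, rfl⟩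
    have hB : ∀ c : B, (1 : H) ⊗ₜ[k] c ∈ K := fun c => by
      refine ⟨(1 : C) ⊗ₜ c, ?_⟩
      change _ = γ.symm ((1 : H) ⊗ₜ c)
      rw [AlgEquiv.eq_symm_apply]
      exact hγ₂ c
    have hle' : E' ≤ K.comap (Algebra.TensorProduct.includeLeft : H →ₐ[k] H ⊗[k] B) := by
      rw [hs]
      refine sup_le (fun x hx => hEK x hx) (Algebra.adjoin_le fun d hd => ?_)
      refine range_inclB_mono (sup_le_sup_left (Algebra.adjoin_mono fun b hb => ?_) _) (hTmem d hd)
      exact Finset.mem_biUnion.2 ⟨⟨d, hd⟩, Finset.mem_attach _ _, hb⟩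
    rintro _ ⟨w, rfl⟩
    induction w using TensorProduct.induction_on with
    | zero => rw [map_zero]; exact zero_mem _
    | tmul x c =>
      have : inclB E' (x ⊗ₜ c) = ((x : H) ⊗ₜ 1) * ((1 : H) ⊗ₜ c) := by
        rw [Algebra.TensorProduct.tmul_mul_tmul, mul_one, one_mul]; rfl
      change inclB E' (x ⊗ₜ c) ∈ K
      rw [this]
      exact mul_mem (hle' x.2) (hB c)
    | add x y hx hy => rw [map_add]; exact add_mem hx hy
  have : γ.symm (γ (b ⊗ₜ 1)) ∈ (inclB C).range :=
    hK ((mem_range_iff ρ γ hγ₁ hγ₂ hco hE' (b ⊗ₜ 1)).1 ⟨⟨b, hb⟩ ⊗ₜ 1, rfl⟩)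
  rwa [AlgEquiv.symm_apply_apply] at this

variable [IsAlgClosed k]

include hγ₁ hγ₂ hco in
theorem exists_step {E E' : Subalgebra k H} (hE : SGA3.IsHopfSubalgebra k H E)
    (hE' : SGA3.IsHopfSubalgebra k H E') (hle : E ≤ E') (s : Finset H) (hs : E' = E ⊔ Algebra.adjoin k (s : Set H))
    (χ : ↥(part ρ E) →ₐ[k] k) :
    ∃ χ' : ↥(part ρ E') →ₐ[k] k, ∀ b, χ' (Subalgebra.inclusion (part_mono ρ hle) b) = χ b := by
  classical
  obtain ⟨m, hm⟩ := Ideal.exists_maximal B
  letI := Ideal.Quotient.field m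
  let q : B →ₐ[k] B ⧸ m := Ideal.Quotient.mkₐ k m
  let f₀ : ↥(part ρ E) ⊗[k] B →ₐ[k] B ⧸ m :=
    Algebra.TensorProduct.lift ((Algebra.ofId k _).comp χ) q (fun _ _ => Commute.all _ _)
  -- the two identifications
  have key : ∀ {D : Subalgebra k H}, SGA3.IsHopfSubalgebra k H D →
      ∃ e : ↥(part ρ D) ⊗[k] B ≃ₐ[k] ↥D ⊗[k] B, ∀ w, inclB D (e w) = γ (inclB (part ρ D) w) := by
    intro D hD
    let a := (γ.toAlgHom.comp (inclB (part ρ D))).codRestrict (inclB D).range
      (fun w => (mem_range_iff ρ γ hγ₁ hγ₂ hco hD _).1 ⟨w, rfl⟩)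
    have ha : Function.Bijective a := by
      refine ⟨fun x y hxy => inclB_injective _ (γ.injective (congrArg Subtype.val hxy)), fun ⟨y, hy⟩ => ?_⟩
      obtain ⟨w, hw⟩ := (mem_range_iff ρ γ hγ₁ hγ₂ hco hD (γ.symm y)).2 (by rwa [AlgEquiv.apply_symm_apply])
      refine ⟨w, Subtype.ext ?_⟩
      change γ (inclB (part ρ D) w) = y
      rw [show inclB (part ρ D) w = γ.symm y from hw, AlgEquiv.apply_symm_apply]
    let i := AlgEquiv.ofInjective (inclB (B := B) D) (inclB_injective D)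
    refine ⟨(AlgEquiv.ofBijective a ha).trans i.symm, fun w => ?_⟩
    exact (AlgEquiv.ofInjective_apply (inclB (B := B) D) (inclB_injective D) _).symm.trans
      (congrArg Subtype.val (i.apply_symm_apply (a w)))
  obtain ⟨eE, heE⟩ := key hE
  obtain ⟨eE', heE'⟩ := key hE'
  obtain ⟨F', _, _, j, f', hf'⟩ := exists_field_extension hE hE' hle (B ⧸ m) (f₀.comp eE.symm.toAlgHom)
  let g : ↥(part ρ E') →ₐ[k] F' := f'.comp (eE'.toAlgHom.comp Algebra.TensorProduct.includeLeft)
  have hg : ∀ b, g (Subalgebra.inclusion (part_mono ρ hle) b) = algebraMap k F' (χ b) := by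
    intro b
    have hcompat : eE' (Subalgebra.inclusion (part_mono ρ hle) b ⊗ₜ 1) =
        Algebra.TensorProduct.map (Subalgebra.inclusion hle) (AlgHom.id k B) (eE (b ⊗ₜ 1)) := by
      apply inclB_injective E'
      rw [heE', inclB_mono, heE]
      rfl
    change f' (eE' (Subalgebra.inclusion (part_mono ρ hle) b ⊗ₜ 1)) = _
    rw [hcompat]
    refine (AlgHom.congr_fun hf' (eE (b ⊗ₜ 1))).trans ?_
    change j (f₀ (eE.symm (eE (b ⊗ₜ 1)))) = _
    rw [AlgEquiv.symm_apply_apply, Algebra.TensorProduct.lift_tmul, map_one, mul_one]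
    exact j.commutes (χ b)
  -- the image is of finite type
  obtain ⟨t, ht, htle⟩ := part_fg ρ γ hγ₁ hγ₂ hco hE hE' hle s hs
  have hfg : g.range.FG := by
    let t' : Finset ↥(part ρ E') := t.attach.image fun b => ⟨b.1, ht b.2⟩
    refine ⟨t'.image g, le_antisymm (Algebra.adjoin_le fun x hx => ?_) ?_⟩
    · obtain ⟨y, -, rfl⟩ := Finset.mem_image.1 hx
      exact ⟨y, rfl⟩
    · rintro _ ⟨⟨b, hb⟩, rfl⟩
      let K : Subalgebra k B :=
        ((Algebra.adjoin k (↑(t'.image g) : Set F')).comap g).map (part ρ E').val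
      have hK : part ρ E ⊔ Algebra.adjoin k (t : Set B) ≤ K := by
        refine sup_le (fun c hc => ⟨Subalgebra.inclusion (part_mono ρ hle) ⟨c, hc⟩, ?_, rfl⟩)
          (Algebra.adjoin_le fun c hc => ⟨⟨c, ht hc⟩, ?_, rfl⟩)
        · change g _ ∈ Algebra.adjoin k (↑(t'.image g) : Set F')
          rw [hg]
          exact Subalgebra.algebraMap_mem _ _
        · refine Algebra.subset_adjoin (Finset.mem_image.2 ⟨_, Finset.mem_image.2 ⟨⟨c, hc⟩, Finset.mem_attach _ _, rfl⟩, rfl⟩)
      obtain ⟨y, hy, hyb⟩ := hK (htle hb)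
      exact (Subtype.ext hyb : y = ⟨b, hb⟩) ▸ hy
  haveI : Algebra.FiniteType k ↥g.range := ⟨(Subalgebra.fg_top _).2 hfg⟩
  obtain ⟨n, hn⟩ := Ideal.exists_maximal ↥g.range
  letI := Ideal.Quotient.field n
  haveI : Algebra.FiniteType k (↥g.range ⧸ n) :=
    Algebra.FiniteType.of_surjective (Ideal.Quotient.mkₐ k n) (Ideal.Quotient.mkₐ_surjective k n)
  haveI : Module.Finite k (↥g.range ⧸ n) := finite_of_finite_type_of_isJacobsonRing k _
  let e : k ≃ₐ[k] ↥g.range ⧸ n :=
    AlgEquiv.ofBijective (Algebra.ofId k _) IsAlgClosed.algebraMap_bijective_of_isIntegral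
  refine ⟨e.symm.toAlgHom.comp ((Ideal.Quotient.mkₐ k n).comp g.rangeRestrict), fun b => ?_⟩
  have : g.rangeRestrict (Subalgebra.inclusion (part_mono ρ hle) b) = algebraMap k _ (χ b) := Subtype.ext (hg b)
  change e.symm (Ideal.Quotient.mkₐ k n (g.rangeRestrict (Subalgebra.inclusion (part_mono ρ hle) b))) = χ b
  rw [this, AlgHom.commutes, AlgEquiv.commutes]
  rfl

/-- A pair of a Hopf subalgebra and a point of the corresponding pushforward. -/
structure Ext where
  E : Subalgebra k H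
  hE : SGA3.IsHopfSubalgebra k H E
  χ : ↥(part ρ E) →ₐ[k] k

instance : Preorder (Ext ρ) where
  le x y := ∃ h : x.E ≤ y.E, ∀ b, y.χ (Subalgebra.inclusion (part_mono ρ h) b) = x.χ b
  le_refl x := ⟨le_rfl, fun b => rfl⟩
  le_trans x y z := fun ⟨h₁, e₁⟩ ⟨h₂, e₂⟩ => ⟨h₁.trans h₂, fun b =>
    (e₂ (Subalgebra.inclusion (part_mono ρ h₁) b)).trans (e₁ b)⟩

theorem exists_ub (c : Set (Ext ρ)) (hc : IsChain (· ≤ ·) c) [Nonempty c] : ∃ z, ∀ x ∈ c, x ≤ z := by
  classical
  have hdir : Directed (· ≤ ·) (fun i : c => i.1.E) := fun i j => by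
    rcases hc.total i.2 j.2 with h | h
    · exact ⟨j, h.1, le_rfl⟩
    · exact ⟨i, le_rfl, h.1⟩
  have hdir' : Directed (· ≤ ·) (fun i : c => part ρ i.1.E) := fun i j => (hdir i j).imp fun _ h => ⟨part_mono ρ h.1, part_mono ρ h.2⟩
  let E := ⨆ i : c, i.1.E
  have hE : SGA3.IsHopfSubalgebra k H E := by
    constructor
    · intro b hb
      obtain ⟨i, hi⟩ := Set.mem_iUnion.mp ((Subalgebra.coe_iSup_of_directed hdir).subset hb)
      obtain ⟨z, hz⟩ := i.1.hE.1 b hi
      have hle := le_iSup (fun i : c => i.1.E) i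
      refine ⟨TensorProduct.map (Subalgebra.inclusion hle).toLinearMap (Subalgebra.inclusion hle).toLinearMap z, ?_⟩
      refine Eq.trans ?_ hz
      clear hz
      induction z using TensorProduct.induction_on with
      | zero => simp
      | tmul p q => rfl
      | add p q hp hq => simp only [map_add, hp, hq]
    · intro b hb
      obtain ⟨i, hi⟩ := Set.mem_iUnion.mp ((Subalgebra.coe_iSup_of_directed hdir).subset hb)
      exact le_iSup (fun i : c => i.1.E) i (i.1.hE.2 b hi)
  have hT : part ρ E ≤ ⨆ i : c, part ρ i.1.E := by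
    intro b hb
    obtain ⟨w, hw⟩ := hb
    obtain ⟨i, hi⟩ : ∃ i : c, inclB E w ∈ (inclB i.1.E).range := by
      clear hw
      induction w using TensorProduct.induction_on with
      | zero => exact ⟨Classical.arbitrary c, by rw [map_zero]; exact zero_mem _⟩
      | tmul x y =>
        obtain ⟨i, hi⟩ := Set.mem_iUnion.mp ((Subalgebra.coe_iSup_of_directed hdir).subset x.2)
        exact ⟨i, ⟨x.1, hi⟩ ⊗ₜ y, rfl⟩
      | add x y hx hy =>
        obtain ⟨i, hi⟩ := hx
        obtain ⟨i', hi'⟩ := hy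
        obtain ⟨j, h₁, h₂⟩ := hdir i i'
        exact ⟨j, by rw [map_add]; exact add_mem (range_inclB_mono h₁ hi) (range_inclB_mono h₂ hi')⟩
    exact le_iSup (fun i : c => part ρ i.1.E) i (show ρ b ∈ (inclB i.1.E).range from hw ▸ hi)
  have hf : ∀ (i j : c) (h : part ρ i.1.E ≤ part ρ j.1.E), i.1.χ = j.1.χ.comp (Subalgebra.inclusion h) := by
    intro i j h
    refine AlgHom.ext fun b => ?_
    rcases hc.total i.2 j.2 with h' | h'
    · exact (h'.2 b).symm
    · exact (h'.2 (Subalgebra.inclusion h b)).trans rfl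
  let χ := Subalgebra.iSupLift (fun i : c => part ρ i.1.E) hdir' (fun i => i.1.χ) hf (part ρ E) hT
  exact ⟨⟨E, hE, χ⟩, fun x hx => ⟨le_iSup (fun i : c => i.1.E) ⟨x, hx⟩, fun b =>
    Subalgebra.iSupLift_inclusion (K := fun i : c => part ρ i.1.E) (dir := hdir') (hf := hf) (hT := hT) (i := ⟨x, hx⟩) b _⟩⟩

include hγ₁ hγ₂ hco in
/-- A torsor under an affine group over an algebraically closed field has a point. -/
theorem exists_point : Nonempty (B →ₐ[k] k) := by
  classical
  have hbot : part ρ (⊥ : Subalgebra k H) ≤ ⊥ := by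
    intro b hb
    refine mem_of_tmul_one_mem (B := B) ?_
    obtain ⟨w, hw⟩ := (mem_range_iff ρ γ hγ₁ hγ₂ hco isHopfSubalgebra_bot (b ⊗ₜ 1)).1 ⟨⟨b, hb⟩ ⊗ₜ 1, rfl⟩
    have hK : (inclB (⊥ : Subalgebra k H)).range ≤
        ((inclB (⊥ : Subalgebra k B)).range.comap γ.symm.toAlgHom) := by
      rintro _ ⟨w, rfl⟩
      induction w using TensorProduct.induction_on with
      | zero => rw [map_zero]; exact zero_mem _
      | tmul x c =>
        obtain ⟨r, hr⟩ := Algebra.mem_bot.1 x.2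
        refine ⟨1 ⊗ₜ (r • c), ?_⟩
        change _ = γ.symm ((x : H) ⊗ₜ c)
        rw [AlgEquiv.eq_symm_apply, ← hr, Algebra.algebraMap_eq_smul_one, TensorProduct.smul_tmul]
        exact hγ₂ (r • c)
      | add x y hx hy => rw [map_add]; exact add_mem hx hy
    have : γ.symm (γ (b ⊗ₜ 1)) ∈ (inclB (⊥ : Subalgebra k B)).range := hK ⟨w, hw⟩
    rwa [AlgEquiv.symm_apply_apply] at this
  haveI : Nonempty (Ext ρ) :=
    ⟨⟨⊥, isHopfSubalgebra_bot, (Algebra.botEquiv k B).toAlgHom.comp (Subalgebra.inclusion hbot)⟩⟩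
  obtain ⟨x, hx⟩ := zorn_le_nonempty (α := Ext ρ) fun c hc hne => by
    haveI := hne.to_subtype
    obtain ⟨z, hz⟩ := exists_ub ρ c hc
    exact ⟨z, fun y hy => hz y hy⟩
  have htop : x.E = ⊤ := by
    rw [eq_top_iff]
    intro a _
    obtain ⟨D, ⟨s, hs⟩, hD, haD⟩ := Hopf.Sub.exists_fg (k := k) ({a} : Finset H)
    have hE' := Hopf.PointLift.isHopfSubalgebra_sup x.hE hD
    obtain ⟨χ', hχ'⟩ := exists_step ρ γ hγ₁ hγ₂ hco x.hE hE' le_sup_left s (by rw [hs]) x.χ
    exact (hx (b := ⟨x.E ⊔ D, hE', χ'⟩) ⟨le_sup_left, hχ'⟩).1 (le_sup_right (a := x.E) (haD (by simp)))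
  refine ⟨x.χ.comp ((AlgHom.id k B).codRestrict _ fun b => ?_)⟩
  change ρ b ∈ (inclB x.E).range
  induction ρ b using TensorProduct.induction_on with
  | zero => exact zero_mem _
  | tmul h c => exact ⟨⟨h, htop ▸ Algebra.mem_top⟩ ⊗ₜ c, rfl⟩
  | add p q hp hq => exact add_mem hp hq

end GrothLib.TorsorPt13
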