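import Groth.Agent.Lib.TorsorPt13.Alg
import Groth.Agent.Lib.GModComod14.Basic

/-!
# Torsors given on points of algebras
-/

set_option autoImplicit false

universe u

open TensorProduct WithConv

namespace GrothLib.TorsorPt13

variable {k : Type u} [Field k] [IsAlgClosed k] {H : Type u} [CommRing H] [HopfAlgebra k H]
  {B : Type u} [CommRing B] [Algebra k B] [Nontrivial B]

theorem lift_right {A A' C : Type u} [CommRing A] [CommRing A'] [CommRing C] [Algebra k A] [Algebra k A'] [Algebra k C]
    (f : A →ₐ[k] C) (g : A' →ₐ[k] C) :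
    (Algebra.TensorProduct.lift f g fun _ _ => Commute.all _ _).comp Algebra.TensorProduct.includeRight = g :=
  AlgHom.ext fun x => by simp

/-- A simply transitive action on the points of a nonzero algebra has a fixed field point. -/
theorem exists_point_of_action
    (act : ∀ {C : Type u} [CommRing C] [Algebra k C], (H →ₐ[k] C) → (B →ₐ[k] C) → (B →ₐ[k] C))
    (hnat : ∀ {C C' : Type u} [CommRing C] [Algebra k C] [CommRing C'] [Algebra k C'] (φ : C →ₐ[k] C')
      (u : H →ₐ[k] C) (z : B →ₐ[k] C), φ.comp (act u z) = act (φ.comp u) (φ.comp z))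
    (hmul : ∀ {C : Type u} [CommRing C] [Algebra k C] (u v : H →ₐ[k] C) (z : B →ₐ[k] C),
      act u (act v z) = act (toConv u * toConv v).ofConv z)
    (hex : ∀ {C : Type u} [CommRing C] [Algebra k C] (y z : B →ₐ[k] C), ∃ u, act u z = y)
    (huniq : ∀ {C : Type u} [CommRing C] [Algebra k C] (u v : H →ₐ[k] C) (z : B →ₐ[k] C),
      act u z = act v z → u = v) : Nonempty (B →ₐ[k] k) := by
  let iH : H →ₐ[k] H ⊗[k] B := Algebra.TensorProduct.includeLeft
  let iB : B →ₐ[k] H ⊗[k] B := Algebra.TensorProduct.includeRight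
  let ρ : B →ₐ[k] H ⊗[k] B := act iH iB
  have hact : ∀ {C : Type u} [CommRing C] [Algebra k C] (u : H →ₐ[k] C) (z : B →ₐ[k] C),
      (Algebra.TensorProduct.lift u z fun _ _ => Commute.all _ _).comp ρ = act u z := by
    intro C _ _ u z
    rw [hnat, Algebra.TensorProduct.lift_comp_includeLeft, lift_right]
  let g₀ : B ⊗[k] B →ₐ[k] H ⊗[k] B := Algebra.TensorProduct.lift ρ iB fun _ _ => Commute.all _ _
  let jL : B →ₐ[k] B ⊗[k] B := Algebra.TensorProduct.includeLeft
  let jR : B →ₐ[k] B ⊗[k] B := Algebra.TensorProduct.includeRight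
  obtain ⟨u, hu⟩ := hex jL jR
  let d₀ : H ⊗[k] B →ₐ[k] B ⊗[k] B := Algebra.TensorProduct.lift u jR fun _ _ => Commute.all _ _
  have hgL : g₀.comp jL = ρ := Algebra.TensorProduct.lift_comp_includeLeft _ _ _
  have hgR : g₀.comp jR = iB := lift_right _ _
  have hdR : d₀.comp iB = jR := lift_right _ _
  have hdρ : d₀.comp ρ = jL := (hact u jR).trans hu
  have h₁ : d₀.comp g₀ = AlgHom.id k _ := Algebra.TensorProduct.ext
    (by rw [AlgHom.comp_assoc]; exact (congrArg d₀.comp hgL).trans hdρ)
    (AlgHom.ext fun x => AlgHom.congr_fun ((congrArg d₀.comp hgR).trans hdR) x)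
  have hgu : g₀.comp u = iH := by
    refine huniq _ _ iB ?_
    have := hnat g₀ u jR
    rw [hu, hgR] at this
    exact this.symm.trans hgL
  have h₂ : g₀.comp d₀ = AlgHom.id k _ := Algebra.TensorProduct.ext
    (by rw [AlgHom.comp_assoc, Algebra.TensorProduct.lift_comp_includeLeft]; exact hgu)
    (AlgHom.ext fun x => AlgHom.congr_fun ((congrArg g₀.comp hdR).trans hgR) x)
  let γ : B ⊗[k] B ≃ₐ[k] H ⊗[k] B := AlgEquiv.ofAlgHom g₀ d₀ h₂ h₁
  refine exists_point ρ γ (fun b => ?_) (fun c => ?_) (fun b => ?_)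
  · exact AlgHom.congr_fun hgL b
  · exact AlgHom.congr_fun hgR c
  · let e₁ : H →ₐ[k] H ⊗[k] (H ⊗[k] B) := Algebra.TensorProduct.includeLeft
    let j : H ⊗[k] B →ₐ[k] H ⊗[k] (H ⊗[k] B) := Algebra.TensorProduct.includeRight
    let e₂ := j.comp iH
    let z := j.comp iB
    have hl : (Algebra.TensorProduct.map (AlgHom.id k H) ρ).comp ρ = act e₁ (act e₂ z) := by
      rw [← hnat, ← hact]
      refine congrArg (fun f : H ⊗[k] B →ₐ[k] H ⊗[k] (H ⊗[k] B) => f.comp ρ) ?_
      exact Algebra.TensorProduct.ext (AlgHom.ext fun x => by simp [e₁, ρ]) (AlgHom.ext fun x => by simp [j, ρ])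
    have hr : (toConv e₁ * toConv e₂).ofConv =
        ((Algebra.TensorProduct.assoc k k k H H B).toAlgHom.comp
          (Algebra.TensorProduct.map (Bialgebra.comulAlgHom k H) (AlgHom.id k B))).comp iH := by
      apply AlgHom.toLinearMap_injective
      rw [GModComod14.convMul_toLinearMap]
      refine LinearMap.ext fun h => ?_
      simp only [iH, LinearMap.comp_apply, AlgHom.toLinearMap_apply, AlgHom.comp_apply,
        Algebra.TensorProduct.includeLeft_apply, Algebra.TensorProduct.map_tmul, Bialgebra.comulAlgHom_apply]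
      induction Coalgebra.comul (R := k) h using TensorProduct.induction_on with
      | zero => simp
      | tmul p q => simp [e₁, e₂, j, iH]
      | add p q hp hq => simp only [map_add, add_tmul, hp, hq]
    have hz : z = ((Algebra.TensorProduct.assoc k k k H H B).toAlgHom.comp
          (Algebra.TensorProduct.map (Bialgebra.comulAlgHom k H) (AlgHom.id k B))).comp iB := by
      refine AlgHom.ext fun x => ?_
      simp [z, j, iB, Algebra.TensorProduct.one_def]
    have := AlgHom.congr_fun hl b
    rw [hmul, hr, hz, ← hnat] at this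
    exact this

end GrothLib.TorsorPt13
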