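import Groth.Agent.Lib.TorsorPt13.Points
import Groth.Agent.Lib.GModStable14.Proj
import Groth.Agent.Lib.GrpSchField.AffineDescent
import Groth.Agent.Lib.GrpSchField.Shear
import Groth.Agent.Lib.TorsorDesc.Pseudo
import Groth.Prelude.Def_NonAbH2
import Mathlib.AlgebraicGeometry.Sites.Fpqc

/-!
# Torsor schemes under affine groups over an algebraically closed field
-/

set_option autoImplicit false
set_option backward.isDefEq.respectTransparency false

universe u

open CategoryTheory CategoryTheory.Limits MonoidalCategory CartesianMonoidalCategory MonObj GrpObj AlgebraicGeometry WithConv VecGrp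

namespace GrothLib.TorsorPt13

variable {k : Type u} [Field k] {G P : Over (Spec (CommRingCat.of k))} [GrpObj G]

/-- Some member of a covering of the spectrum of a field is nonempty. -/
theorem exists_affine_section (hP : NonAbH1.IsLocallyTrivialFor Scheme.fpqcPrecoverage P) :
    ∃ (C : CommRingCat.{u}) (_ : Nontrivial C) (f : Spec C ⟶ Spec (CommRingCat.of k)) (s : Spec C ⟶ P.left),
      s ≫ P.hom = f := by
  obtain ⟨R, hR, hsec⟩ := hP
  rw [Scheme.fpqcPrecoverage, Scheme.propQCPrecoverage] at hR
  obtain ⟨-, hR⟩ := hR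
  obtain ⟨hsurj, -⟩ := hR
  rw [Scheme.jointlySurjectivePrecoverage, Presieve.mem_comap_jointlySurjectivePrecoverage_iff] at hsurj
  obtain ⟨Y, f, hf, y, -⟩ := hsurj (Classical.arbitrary (Spec (CommRingCat.of k)))
  obtain ⟨C, j, hj, hy, -⟩ := Scheme.exists_affine_mem_range_and_range_subset (X := Y) (x := y) (U := ⊤) trivial
  obtain ⟨s, hs⟩ := hsec f hf
  haveI : Nonempty (Spec C) := ⟨hy.choose⟩
  refine ⟨C, ?_, j ≫ f, j ≫ s, by rw [Category.assoc, hs]⟩
  exact (PrimeSpectrum.nonempty_iff_nontrivial (R := C)).1 ‹_›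

/-- A torsor under an affine group is affine. -/
theorem isAffine_torsor [IsAffine G.left] (a : AlgGrp.Action G P)
    (hP : NonAbH1.IsTorsorFor Scheme.fpqcPrecoverage a) : IsAffine P.left ∧ Nonempty P.left := by
  obtain ⟨C, hC, f, s, hs⟩ := exists_affine_section hP.2
  haveI : Nonempty (Spec C) := (PrimeSpectrum.nonempty_iff_nontrivial (R := C)).2 hC
  refine ⟨?_, ⟨s (Classical.arbitrary (Spec C))⟩⟩
  haveI : Flat f := by
    obtain ⟨ψ, rfl⟩ := Spec.map_surjective f
    refine Flat.SpecMap_iff.2 ?_
    algebraize [ψ.hom]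
    exact (inferInstance : Module.Flat k C)
  haveI : Surjective f := ⟨fun x => ⟨Classical.arbitrary _, Subsingleton.elim _ _⟩⟩
  let T : Over (Spec (CommRingCat.of k)) := Over.mk f
  let sT : T ⟶ P := Over.homMk s hs
  let φ : G ⊗ T ⟶ P ⊗ T := lift (lift (fst G T) (snd G T ≫ sT) ≫ a.act) (snd G T)
  let d := (TorsorDesc.exists_act_eq hP.1 (fst P T) (snd P T ≫ sT)).choose
  have hd : lift d (snd P T ≫ sT) ≫ a.act = fst P T :=
    (TorsorDesc.exists_act_eq hP.1 (fst P T) (snd P T ≫ sT)).choose_spec
  let ψ : P ⊗ T ⟶ G ⊗ T := lift d (snd P T)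
  haveI : IsIso φ := by
    refine ⟨ψ, ?_, ?_⟩
    · apply CartesianMonoidalCategory.hom_ext
      · rw [Category.assoc, lift_fst, Category.id_comp]
        refine TorsorDesc.act_left_injective hP.1 (p := snd G T ≫ sT) ?_
        have h2 := congrArg (φ ≫ ·) hd
        simp only [φ] at h2
        rw [← Category.assoc, comp_lift, ← Category.assoc, lift_snd, lift_fst] at h2
        exact h2
      · rw [Category.assoc, lift_snd, lift_snd, Category.id_comp]
    · apply CartesianMonoidalCategory.hom_ext
      · rw [Category.assoc, lift_fst, comp_lift_assoc, ← Category.assoc, lift_fst, lift_snd, Category.id_comp]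
        exact hd
      · rw [Category.assoc, lift_snd, lift_snd, Category.id_comp]
  haveI : IsAffine (G ⊗ T).left := inferInstanceAs (IsAffine (pullback G.hom f))
  haveI : IsAffine (pullback P.hom f) :=
    @IsAffine.of_isIso _ _ ((Over.forget _).mapIso (asIso φ)).inv inferInstance ‹IsAffine (G ⊗ T).left›
  haveI : Surjective (pullback.fst P.hom f) := MorphismProperty.pullback_fst _ _ ‹Surjective f›
  haveI : CompactSpace P.left :=
    ⟨by rw [← (pullback.fst P.hom f).surjective.range_eq]; exact isCompact_range (pullback.fst P.hom f).continuous⟩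
  haveI : QuasiSeparatedSpace P.left := by
    rw [quasiSeparatedSpace_iff_forall_affineOpens]
    intro U V
    let q := pullback.fst P.hom f
    haveI : IsAffineHom q := MorphismProperty.pullback_fst _ _ inferInstance
    have hU : IsAffineOpen (q ⁻¹ᵁ U.1) := U.2.preimage q
    have hV : IsAffineOpen (q ⁻¹ᵁ V.1) := V.2.preimage q
    have h2 : IsCompact (⇑q ⁻¹' ((U.1 : Set P.left) ∩ V.1)) := (hU.inf hV).isCompact
    have := h2.image q.continuous
    rwa [Set.image_preimage_eq _ q.surjective] at this
  exact GrpSchField.isAffine_of_pullback_flat_surjective P.hom f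

variable [IsAlgClosed k]

/-- A torsor under an affine group over an algebraically closed field has a point. -/
theorem exists_section [IsAffine G.left] (a : AlgGrp.Action G P)
    (hP : NonAbH1.IsTorsorFor Scheme.fpqcPrecoverage a) :
    Nonempty (𝟙_ (Over (Spec (CommRingCat.of k))) ⟶ P) := by
  obtain ⟨hAff, hne⟩ := isAffine_torsor a hP
  obtain ⟨H', ⟨e⟩⟩ := (essImage_hopfSpec (R := CommRingCat.of k) (G := Grp.mk G)).2 ‹IsAffine G.left›
  obtain ⟨H, rfl⟩ : ∃ H, Opposite.op H = H' := ⟨H'.unop, rfl⟩
  let i : GModComod14.G k (H : Type u) ≅ G := (Grp.forget _).mapIso e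
  haveI : IsMonHom i.hom := e.hom.hom.isMonHom_hom
  letI : Algebra k Γ(P.left, ⊤) := GModStable14.secAlg P ⊤
  let B := Γ(P.left, ⊤)
  haveI : Nontrivial B := by
    have : Nonempty (Spec Γ(P.left, ⊤)) := ⟨P.left.toSpecΓ hne.some⟩
    exact (PrimeSpectrum.nonempty_iff_nontrivial (R := Γ(P.left, ⊤))).1 this
  let c : pt k B ⟶ P := GModStable14.chart (isAffineOpen_top P.left)
  haveI : IsIso c := by
    haveI : IsIso c.left := by
      show IsIso (isAffineOpen_top P.left).fromSpec
      rw [IsAffineOpen.fromSpec_top]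
      infer_instance
    haveI : IsIso ((Over.forget (Spec (CommRingCat.of k))).map c) := ‹IsIso c.left›
    exact isIso_of_reflects_iso c (Over.forget _)
  have hinj : ∀ {C C' : Type u} [CommRing C] [Algebra k C] [CommRing C'] [Algebra k C'] (φ ψ : C →ₐ[k] C'),
      ptMap φ = ptMap ψ → φ = ψ := by
    intro C C' _ _ _ _ φ ψ h
    exact AlgHom.ext fun x => congr($(Spec.map_injective (congrArg (·.left) h)).hom x)
  let pc : ∀ {C : Type u} [CommRing C] [Algebra k C], ((H : Type u) →ₐ[k] C) → (B →ₐ[k] C) → (pt k C ⟶ P) :=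
    fun u z => lift (GModComod14.point u ≫ i.hom) (ptMap z ≫ c) ≫ a.act
  let act : ∀ {C : Type u} [CommRing C] [Algebra k C], ((H : Type u) →ₐ[k] C) → (B →ₐ[k] C) → (B →ₐ[k] C) :=
    fun u z => (GModStable14.exists_ptMap (pc u z ≫ inv c)).choose
  have hact : ∀ {C : Type u} [CommRing C] [Algebra k C] (u : (H : Type u) →ₐ[k] C) (z : B →ₐ[k] C),
      ptMap (act u z) ≫ c = pc u z := by
    intro C _ _ u z
    rw [← (GModStable14.exists_ptMap (pc u z ≫ inv c)).choose_spec, Category.assoc, IsIso.inv_hom_id,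
      Category.comp_id]
  have hcinj : ∀ {C : Type u} [CommRing C] [Algebra k C] (y z : B →ₐ[k] C), ptMap y ≫ c = ptMap z ≫ c → y = z :=
    fun y z h => hinj _ _ ((cancel_mono c).1 h)
  refine (exists_point_of_action (H := (H : Type u)) (B := B) act ?_ ?_ ?_ ?_).map fun χ => ?_
  · intro C C' _ _ _ _ φ u z
    refine hcinj _ _ ?_
    rw [hact, GModStable14.ptMap_comp', Category.assoc, hact]
    simp only [pc]
    rw [comp_lift_assoc, ← Category.assoc (ptMap φ), GModComod14.point_comp, GModStable14.ptMap_comp',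
      Category.assoc]
  · intro C _ _ u v z
    refine hcinj _ _ ?_
    rw [hact, hact]
    simp only [pc]
    rw [hact]
    simp only [pc]
    rw [← GModComod14.point_mul, MonObj.mul_comp, AlgGrp.Action.lift_mul_act]
  · intro C _ _ y z
    obtain ⟨g, hg⟩ := TorsorDesc.exists_act_eq hP.1 (ptMap y ≫ c) (ptMap z ≫ c)
    refine ⟨GModComod14.alg (g ≫ i.inv), hcinj _ _ ?_⟩
    rw [hact]
    simp only [pc, GModComod14.point_alg, Category.assoc, Iso.inv_hom_id, Category.comp_id]
    exact hg
  · intro C _ _ u v z h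
    have h1 := congrArg (fun w => ptMap w ≫ c) h
    simp only [hact, pc] at h1
    have h2 := (cancel_mono i.hom).1 (TorsorDesc.act_left_injective hP.1 h1)
    have := congrArg GModComod14.alg h2
    rwa [GModComod14.alg_point, GModComod14.alg_point] at this
  · exact Over.homMk ((ptMap χ).left ≫ c.left) (by
      rw [Category.assoc, Over.w c, Over.w (ptMap χ)]
      show Spec.map (CommRingCat.ofHom (algebraMap k k)) = 𝟙 _
      rw [Algebra.algebraMap_self, CommRingCat.ofHom_id, Spec.map_id])

end GrothLib.TorsorPt13
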